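import Cfsg.Agent.Lib.Fusion.NormalCentralizerMain
import Cfsg.Agent.Lib.Fusion.PPowerIndex
import Cfsg.Agent.Lib.Fusion.PPowerNormal
import Cfsg.Agent.Fus93.NormalFocal

/-!
# Maps between subgroups centralizing a strongly closed subgroup
-/

set_option autoImplicit false

namespace Cfsg.Agent.Fusion92.CentE

open Cfsg Cfsg.Agent.Fusion Cfsg.Agent.Fusion.NormalLift
open Cfsg.FusionSystem (normalizerIn centralizerIn)

universe u

variable {Ω : Type u} [Group Ω] {S T : Subgroup Ω} {F : FusionSystem S} {E : FusionSystem T} {p : ℕ}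
  [Finite S] [Fact p.Prime]

theorem le_cent {P : Subgroup Ω} (hTS : T ≤ S) (hP : P ≤ centralizerIn S T) :
    T ≤ centralizerIn S P :=
  fun t ht => ⟨hTS ht, Subgroup.mem_centralizer_iff.mpr fun x hx =>
    (Subgroup.mem_centralizer_iff.mp (hP hx).2 t ht).symm⟩

/-- A map between subgroups centralizing `T` extends to `T`. -/
theorem exists_ext_T (h : NData F E p) {P : Subgroup Ω} {f : Ω → Ω} (hP : P ≤ centralizerIn S T)
    (hf : IsMap F P f) (hfC : ∀ x ∈ P, f x ∈ centralizerIn S T) :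
    ∃ f', IsMap F (P ⊔ T) f' ∧ Set.EqOn f' f P ∧ IsIso F T T f' := by
  haveI := h.finiteT
  obtain ⟨P₁, hP₁⟩ := hf.exists_image
  have hP₁C : P₁ ≤ centralizerIn S T := fun y hy => by
    obtain ⟨x, hx, rfl⟩ := hP₁.exists_preimage hy
    exact hfC x hx
  obtain ⟨R, hR, hRn⟩ := exists_fullyNormalized (F := F) hP₁.cod_le
  obtain ⟨θ, hθ⟩ := isConj_iff.mp hR
  have hrec : F.IsReceptive R := h.recv hRn
  obtain ⟨g, hg, hge⟩ := receptive_extend hrec hθ (isExtendable_centralizerIn θ)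
  obtain ⟨g', hg', hge'⟩ := receptive_extend hrec (hP₁.comp hθ) (isExtendable_centralizerIn _)
  have hg₀ : IsMap F (P₁ ⊔ T) g := hg.mono (sup_le_sup_left (le_cent h.tS hP₁C) _)
  have hg₀' : IsMap F (P ⊔ T) g' := hg'.mono (sup_le_sup_left (le_cent h.tS hP) _)
  have hgT : IsIso F T T g := h.iso_t (hg₀.mono le_sup_right)
  have hgT' : IsIso F T T g' := h.iso_t (hg₀'.mono le_sup_right)
  obtain ⟨W, hW⟩ := hg₀.exists_image
  obtain ⟨gi, hgi, hgl, -⟩ := hW.exists_inv
  have hmem : ∀ z ∈ P ⊔ T, g' z ∈ W := by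
    refine isMap_mem_sup hg₀' le_sup_left le_sup_right (fun x hx => ?_) fun x hx => ?_
    · rw [hge' hx, Function.comp_apply, ← hge (hP₁.mem hx)]
      exact hW.mem (Subgroup.mem_sup_left (hP₁.mem hx))
    · obtain ⟨t, ht, hte⟩ := hgT.exists_preimage (hgT'.mem hx)
      exact hte ▸ hW.mem (Subgroup.mem_sup_right ht)
  have hcomp : IsMap F (P ⊔ T) (gi ∘ g') := hg₀'.comp hgi.1 hmem
  refine ⟨gi ∘ g', hcomp, fun x hx => ?_, h.iso_t (hcomp.mono le_sup_right)⟩
  rw [Function.comp_apply, hge' hx, Function.comp_apply, ← hge (hP₁.mem hx)]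
  exact hgl _ (Subgroup.mem_sup_left (hP₁.mem hx))

/-- The focal subgroup of the centralizer system of `T` centralizes `E`. -/
theorem hyperfocal_le_cE (h : NData F E p) :
    (centralizerSystem F T h.tS).hyperfocalSubgroup p ≤ cE F E := by
  refine (Subgroup.closure_le _).mpr ?_
  rintro _ ⟨P, α, x, hP, -, rfl⟩
  haveI := finite_of_le (hP.trans (centralizerIn_le S T))
  have hαi := (mem_autGroup hP).mp α.2
  obtain ⟨-, -, -, f, hf, hfe, hfix⟩ :=
    (IsCentralizerSystem.isMap_iff (isCentralizerSystem_centralizerSystem T h.tS)).mp hαi.1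
  have hu : (x : Ω)⁻¹ * f x ∈ Fus93.NormalFocal.focGen F T :=
    ⟨x, hP x.2, f, hf.mono (sup_le_sup_right ((Subgroup.zpowers_le).mpr x.2) T), hfix, rfl⟩
  rw [hfe x.2, autFun_coe] at hu
  refine Subgroup.subset_closure ⟨Fus93.NormalFocal.focGen_subset h.tS hu, fun Q e he => ?_⟩
  exact extendsFix_mono (Fus93.NormalFocal.extends_all h Q e he) le_rfl
    ((Subgroup.zpowers_le).mpr (Subgroup.subset_closure hu))

omit [Finite S] [Fact p.Prime] in
theorem fullyNormalized_of_normal [Finite S] {R : Subgroup Ω} (hR : R ≤ S)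
    (hn : S ≤ Subgroup.normalizer (R : Set Ω)) : F.IsFullyNormalized R := by
  haveI := finite_of_le (Fusion.normalizerIn_le S R)
  exact ⟨hR, fun Q _ => Subgroup.card_le_of_le (le_inf (Fusion.normalizerIn_le _ _) ((Fusion.normalizerIn_le _ _).trans hn))⟩

end Cfsg.Agent.Fusion92.CentE
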