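import Cfsg.Agent.Fusion92.CentE.Basic
import Cfsg.Agent.Fusion92.TClass.GroupStep
import Cfsg.Agent.PrimeIndex.Basic

/-!
# The centralizer of a normal subsystem is normal
-/

set_option autoImplicit false

namespace Cfsg.Agent.Fusion92.CentE

open Cfsg Cfsg.Agent.Fusion Cfsg.Agent.Fusion.NormalLift
open Cfsg.FusionSystem (normalizerIn centralizerIn)

universe u

variable {Ω : Type u} [Group Ω] {S T : Subgroup Ω} {F : FusionSystem S} {E : FusionSystem T} {p : ℕ}
  [Finite S] [Fact p.Prime]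

/-- The hypotheses on the subgroup `Y = C_S(E)` and the subsystem `D` over it. -/
structure CData (F : FusionSystem S) (E : FusionSystem T) (p : ℕ) {Y : Subgroup Ω}
    (D : FusionSystem Y) (hTS : T ≤ S) : Prop where
  nd : NData F E p
  le : Y ≤ centralizerIn S T
  closed : F.StronglyClosed Y
  sat : D.IsSaturated p
  idx : D.HasPPowerIndexIn (centralizerSystem F T hTS) p

variable {Y : Subgroup Ω} {D : FusionSystem Y} {hTS : T ≤ S}

theorem CData.yS (h : CData F E p D hTS) : Y ≤ S := h.le.trans (centralizerIn_le _ _)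

theorem CData.sub (h : CData F E p D hTS) : D.IsSubsystemOf F := fun P =>
  hom_subset_of_isMap fun _ hf =>
    ((IsCentralizerSystem.isMap_iff (isCentralizerSystem_centralizerSystem T hTS)).mp
      (hf.of_isSubsystemOf h.idx.1)).1

theorem CData.yn (h : CData F E p D hTS) : S ≤ Subgroup.normalizer (Y : Set Ω) :=
  stronglyClosed_le_normalizer h.closed

theorem CData.cData_normal (h : CData F E p D hTS) :
    (Y.subgroupOf (centralizerIn S T)).Normal :=
  (Subgroup.normal_subgroupOf_iff_le_normalizer h.le).mpr ((centralizerIn_le _ _).trans h.yn)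

/-- Invariance of `D` under the automorphisms of `Y`. -/
theorem transport (h : CData F E p D hTS) {k : Ω → Ω} (hk : IsIso F Y Y k) {P : Subgroup Ω}
    {f : Ω → Ω} (hf : IsMap D P f) {P' : Subgroup Ω} (hP' : (P' : Set Ω) = k '' P) :
    ∃ g, IsMap D P' g ∧ ∀ x ∈ P, g (k x) = k (f x) := by
  set C₀ := centralizerSystem F T hTS with hC₀
  haveI := finite_of_le h.yS
  haveI := finite_of_le (centralizerIn_le S T)
  have hiff : ∀ {P : Subgroup Ω} {g : Ω → Ω}, IsMap C₀ P g ↔ IsMap F P g ∧ P ≤ centralizerIn S T ∧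
      (∀ x ∈ P, g x ∈ centralizerIn S T) ∧ ExtendsFix F T P g :=
    fun {P g} => IsCentralizerSystem.isMap_iff (isCentralizerSystem_centralizerSystem T hTS)
  obtain ⟨k', hk', hk'e, hk'T⟩ := exists_ext_T h.nd h.le hk.1 fun x hx => h.le (hk.mem hx)
  let E₂ : FusionSystem Y := mkSub C₀ Y
    (fun P f => IsMap C₀ P f ∧ P ≤ Y ∧ (∀ x ∈ P, f x ∈ Y) ∧
      ∃ P', IsIso F P P' k ∧ ∃ χ, IsMap D P' χ ∧ ∀ x ∈ P, χ (k x) = k (f x))
    (fun {P f f'} ⟨h1, h2, h3, P', h4, χ, h5, h6⟩ he => ⟨h1.congr he, h2, fun x hx => he hx ▸ h3 x hx,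
      P', h4, χ, h5, fun x hx => by rw [h6 x hx, he hx]⟩)
    (fun {P f} h => ⟨h.1, h.2.1, h.2.2.1⟩)
    (fun {P g} hP hg => by
      obtain ⟨P', hP'⟩ := (hk.1.mono hP).exists_image
      refine ⟨isMap_conj (hP.trans h.le) (h.le hg), hP,
        fun x hx => Y.mul_mem (Y.mul_mem hg (hP hx)) (Y.inv_mem hg), P', hP', _,
        isMap_conj (fun y hy => ?_) (hk.mem hg), fun x hx => (hk.1.map_conj hg (hP hx)).symm⟩
      obtain ⟨x, hx, rfl⟩ := hP'.exists_preimage hy
      exact hk.mem (hP hx))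
    (fun {P Q f f'} ⟨h1, h2, _, P', h4, χ, h5, h6⟩ ⟨k1, _, k3, Q', k4, χ', k5, k6⟩ hmaps => by
      refine ⟨h1.comp k1 hmaps, h2, fun x hx => k3 _ (hmaps x hx), P', h4, χ' ∘ χ, h5.comp k5 ?_, ?_⟩
      · intro y hy
        obtain ⟨x, hx, rfl⟩ := h4.exists_preimage hy
        rw [h6 x hx]
        exact k4.mem (hmaps x hx)
      · intro x hx
        rw [Function.comp_apply, h6 x hx, k6 _ (hmaps x hx), Function.comp_apply])
    (fun {P Q f g} ⟨_, h2, h3, P', h4, χ, h5, h6⟩ hi hg hgl => by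
      have hQT : Q ≤ Y := fun y hy => by
        obtain ⟨x, hx, rfl⟩ := hi.exists_preimage hy
        exact h3 x hx
      obtain ⟨Q', hQ'⟩ := (hk.1.mono hQT).exists_image
      have hχ : IsIso D P' Q' χ := by
        refine ⟨h5, Set.Subset.antisymm ?_ fun z hz => ?_⟩
        · rintro _ ⟨y, hy, rfl⟩
          obtain ⟨x, hx, rfl⟩ := h4.exists_preimage hy
          rw [h6 x hx]
          exact hQ'.mem (hi.mem hx)
        · obtain ⟨y, hy, rfl⟩ := hQ'.exists_preimage hz
          obtain ⟨x, hx, rfl⟩ := hi.exists_preimage hy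
          exact ⟨k x, h4.mem hx, h6 x hx⟩
      obtain ⟨χi, hχi, hχil, -⟩ := hχ.exists_inv
      refine ⟨hg.1, hQT, fun y hy => h2 (hg.mem hy), Q', hQ', χi, hχi.1, fun y hy => ?_⟩
      obtain ⟨x, hx, rfl⟩ := hi.exists_preimage hy
      rw [← h6 x hx, hχil _ (h4.mem hx), hgl x hx])
  have hle : D ≤ E₂ := by
    refine Fusion91.le_of_pResidual_le (F := C₀) (h.nd.pgroup.to_le h.yS) h.sat h.idx.1 fun P hP => ?_
    have hPC := hP.trans h.le
    haveI := finite_of_le (hP.trans h.yS)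
    haveI := finite_mulAut P
    rw [Subgroup.map_le_iff_le_comap, Transfer.pResidual_le_iff]
    intro α hα
    obtain ⟨P', hP'T, hP'⟩ := hk.restrict hP
    have hαi := (mem_autGroup hPC).1 α.2
    have hb₁ : MulAut.congr hP'.equiv (α : MulAut P) ∈ C₀.autGroup P' := by
      obtain ⟨-, -, -, a, ha, hae, hafix⟩ := hiff.mp hαi.1
      have hPY : P ⊔ T ≤ Y ⊔ T := sup_le_sup_right hP T
      obtain ⟨W, hW⟩ := (hk'.mono hPY).exists_image
      obtain ⟨ki, hki, hkl, -⟩ := hW.exists_inv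
      have hWle : P' ⊔ T ≤ W := by
        refine sup_le (fun y hy => ?_) fun y hy => ?_
        · obtain ⟨x, hx, rfl⟩ := hP'.exists_preimage hy
          rw [← hk'e (hP hx)]
          exact hW.mem (Subgroup.mem_sup_left hx)
        · obtain ⟨t, ht, rfl⟩ := hk'T.exists_preimage hy
          exact hW.mem (Subgroup.mem_sup_right ht)
      have hamem : ∀ z ∈ P ⊔ T, a z ∈ P ⊔ T := isMap_mem_sup ha le_sup_left le_sup_right
        (fun x hx => Subgroup.mem_sup_left (hae hx ▸ hαi.mem hx))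
        fun x hx => Subgroup.mem_sup_right ((hafix x hx).symm ▸ hx)
      have hb' : IsMap F (P' ⊔ T) (k' ∘ a ∘ ki) :=
        ((hki.1.mono hWle).comp ha fun y hy => hki.mem (hWle hy)).comp (hk'.mono hPY)
          fun y hy => hamem _ (hki.mem (hWle hy))
      refine autGroup_mem_of_isMap (hiff.mpr ⟨(hb'.mono le_sup_left).congr fun y hy => ?_,
        hP'T.trans h.le, fun y hy => h.le (hP'T (PrimeIndex.autFun_mem _ hy)),
        k' ∘ a ∘ ki, hb', fun y hy => ?_, fun t ht => ?_⟩)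
      all_goals simp only [Function.comp_apply]
      · obtain ⟨x, hx, rfl⟩ := hP'.exists_preimage hy
        rw [NormalLift.autFun_congr hP' (α : MulAut P) hx, ← hk'e (hP hx),
          hkl x (Subgroup.mem_sup_left hx), hae hx, hk'e (hP (hαi.mem hx))]
      · obtain ⟨x, hx, rfl⟩ := hP'.exists_preimage hy
        rw [NormalLift.autFun_congr hP' (α : MulAut P) hx, ← hk'e (hP hx),
          hkl x (Subgroup.mem_sup_left hx), hae hx, hk'e (hP (hαi.mem hx))]
      · obtain ⟨t₀, ht₀, rfl⟩ := hk'T.exists_preimage ht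
        rw [hkl t₀ (Subgroup.mem_sup_right ht₀), hafix t₀ ht₀]
    have hβ : MulAut.congr hP'.equiv (α : MulAut P) ∈ D.autGroup P' :=
      h.idx.2.2 P' hP'T ⟨⟨_, hb₁⟩, Transfer.mem_pResidual_of_coprime
        (by rw [Subgroup.orderOf_mk, MulEquiv.orderOf_eq, Subgroup.orderOf_coe]; exact hα), rfl⟩
    refine autGroup_mem_of_isMap (isMap_mkSub.2 ⟨hαi.1, hP, fun x hx => hP (hαi.mem hx), P', hP', _,
      ((mem_autGroup hP'T).1 hβ).1, fun x hx => ?_⟩)
    exact NormalLift.autFun_congr hP' _ hx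
  obtain ⟨-, -, -, P'', hP'', χ, hχ, hχe⟩ := isMap_mkSub.1 (hf.of_le hle)
  obtain rfl : P'' = P' := SetLike.coe_injective (hP''.2.symm.trans hP'.symm)
  exact ⟨χ, hχ, hχe⟩

/-- The Frattini decomposition. -/
theorem frattini (h : CData F E p D hTS) {P : Subgroup Ω} {f : Ω → Ω} (hf : IsMap F P f)
    (hP : P ≤ Y) : ∃ k g, IsIso F Y Y k ∧ IsMap D P g ∧ ∀ x ∈ P, f x = k (g x) := by
  haveI := h.nd.finiteT
  haveI := finite_of_le (centralizerIn_le S T)
  have hfY : ∀ x ∈ P, f x ∈ Y := fun x hx => Fusion92.closed_apply h.closed hf hx (hP hx)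
  obtain ⟨f', hf', hf'e, hf'T⟩ := exists_ext_T h.nd (hP.trans h.le) hf fun x hx => h.le (hfY x hx)
  have hTc := h.nd.centralized h.nd.t_fullyNormalized
  obtain ⟨K, -, hKe, hKD, -⟩ := exists_extend_centralizer h.nd.pgroup h.nd.sat hf'T hTc hTc
  obtain ⟨Ki, hKi, hKl, hKr⟩ := hKD.exists_inv
  have hY : Y ≤ T ⊔ centralizerIn S T := h.le.trans le_sup_right
  have hmem : ∀ z ∈ P ⊔ T, f' z ∈ T ⊔ centralizerIn S T :=
    isMap_mem_sup hf' le_sup_left le_sup_right
      (fun x hx => hY (hf'e hx ▸ hfY x hx)) fun x hx => Subgroup.mem_sup_left (hf'T.mem hx)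
  have hg : IsMap F (P ⊔ T) (Ki ∘ f') := hf'.comp hKi.1 hmem
  have hgfix : ∀ t ∈ T, (Ki ∘ f') t = t := fun t ht => by
    rw [Function.comp_apply, ← hKe ht]
    exact hKl t (Subgroup.mem_sup_left ht)
  have hgY : ∀ x ∈ P, (Ki ∘ f') x ∈ Y := fun x hx =>
    Fusion92.closed_apply h.closed hg (Subgroup.mem_sup_left hx) (hP hx)
  have hg₀ : IsMap (centralizerSystem F T hTS) P (Ki ∘ f') :=
    (IsCentralizerSystem.isMap_iff (isCentralizerSystem_centralizerSystem T hTS)).mpr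
      ⟨hg.mono le_sup_left, hP.trans h.le, fun x hx => h.le (hgY x hx), _, hg, fun _ _ => rfl, hgfix⟩
  obtain ⟨k₂, g, hk₂, hg₂, hge⟩ := PPow.exists_frattini (h.nd.pgroup.to_le (centralizerIn_le _ _))
    (centralizerSystem_isSaturated h.nd.pgroup h.nd.sat hTc) h.le h.cData_normal h.sat h.idx hg₀ hP
  haveI := finite_of_le h.yS
  have hKY : IsIso F Y Y K := isIso_of_mapsTo (hKD.1.mono hY) h.yS
    (fun x hx => Fusion92.closed_apply h.closed hKD.1 (hY hx) hx) le_rfl
  have hk₂F : IsMap F Y k₂ :=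
    ((IsCentralizerSystem.isMap_iff (isCentralizerSystem_centralizerSystem T hTS)).mp hk₂.1).1
  refine ⟨K ∘ k₂, g, IsIso.comp ⟨hk₂F, hk₂.2⟩ hKY, hg₂, fun x hx => ?_⟩
  show f x = K (k₂ (g x))
  rw [← hge x hx, Function.comp_apply, hKr _ (hmem x (Subgroup.mem_sup_left hx)), hf'e hx]

/-- An automorphism of `Y` in `D` of order prime to `p` lifts to `Y C_S(Y)`. -/
theorem lift_coprime (h : CData F E p D hTS) {α : MulAut Y} (hα : α ∈ D.autGroup Y)
    (ho : (orderOf α).Coprime p) : Lift F α := by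
  haveI := h.nd.finiteT
  haveI := finite_of_le h.yS
  haveI := finite_of_le (centralizerIn_le S T)
  have hCp := h.nd.pgroup.to_le (centralizerIn_le S T)
  have hTc := h.nd.centralized h.nd.t_fullyNormalized
  have hDn := PPow.isNormalIn_of_pPowerIndex hCp (centralizerSystem_isSaturated h.nd.pgroup h.nd.sat hTc)
    h.le h.cData_normal h.sat h.idx
  obtain ⟨δ₀, hδ₀, hδ₀e, hδ₀c⟩ := Fus93.normal_ext hDn ((mem_autGroup le_rfl).mp hα)
  obtain ⟨-, -, -, δ, hδ, hδe, hδT⟩ :=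
    (IsCentralizerSystem.isMap_iff (isCentralizerSystem_centralizerSystem T hTS)).mp hδ₀.1
  set C' := centralizerIn (centralizerIn S T) Y with hC'
  set Z₀ := Y ⊔ T with hZ₀
  set R := (Y ⊔ C') ⊔ T with hR
  set Z := Y ⊓ Subgroup.centralizer (Y : Set Ω) with hZ
  set C := centralizerIn S Y with hC
  set M := Y ⊔ C with hM
  have hTC : T ≤ C := le_cent hTS h.le
  have hC'C : C' ≤ C := fun c hc => ⟨hc.1.1, hc.2⟩
  have hRM : R ≤ M := sup_le (sup_le le_sup_left (hC'C.trans le_sup_right)) (hTC.trans le_sup_right)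
  have hMS : M ≤ S := sup_le h.yS (centralizerIn_le _ _)
  have hRS : R ≤ S := hRM.trans hMS
  have hYR : Y ≤ R := le_sup_left.trans le_sup_left
  have hC'R : C' ≤ R := le_sup_right.trans le_sup_left
  have hTR : T ≤ R := le_sup_right
  have hsC' : ∀ {s c : Ω}, s ∈ S → c ∈ C' → s * c * s⁻¹ ∈ C' := by
    intro s c hs hc
    refine ⟨⟨S.mul_mem (S.mul_mem hs hc.1.1) (S.inv_mem hs), Subgroup.mem_centralizer_iff.mpr fun t ht => ?_⟩,
      Subgroup.mem_centralizer_iff.mpr fun y hy => ?_⟩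
    · have h1 : s⁻¹ * t * s ∈ T := by simpa using h.nd.conj_t (S.inv_mem hs) ht
      have h2 := Subgroup.mem_centralizer_iff.mp hc.1.2 _ h1
      calc t * (s * c * s⁻¹) = s * (s⁻¹ * t * s * c) * s⁻¹ := by group
        _ = s * (c * (s⁻¹ * t * s)) * s⁻¹ := by rw [h2]
        _ = s * c * s⁻¹ * t := by group
    · have h1 : s⁻¹ * y * s ∈ Y := by simpa using conj_mem_of_mem_normalizer (h.yn (S.inv_mem hs)) hy
      have h2 := Subgroup.mem_centralizer_iff.mp hc.2 _ h1
      calc y * (s * c * s⁻¹) = s * (s⁻¹ * y * s * c) * s⁻¹ := by group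
        _ = s * (c * (s⁻¹ * y * s)) * s⁻¹ := by rw [h2]
        _ = s * c * s⁻¹ * y := by group
  have hsR : ∀ {s x : Ω}, s ∈ S → x ∈ R → s * x * s⁻¹ ∈ R := by
    intro s x hs hx
    have : R.map (MulAut.conj s).toMonoidHom ≤ R := by
      rw [hR, Subgroup.map_sup, Subgroup.map_sup]
      refine sup_le (sup_le ?_ ?_) ?_
      · rintro _ ⟨y, hy, rfl⟩
        exact hYR (conj_mem_of_mem_normalizer (h.yn hs) hy)
      · rintro _ ⟨y, hy, rfl⟩
        exact hC'R (hsC' hs hy)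
      · rintro _ ⟨y, hy, rfl⟩
        exact hTR (h.nd.conj_t hs hy)
    exact this ⟨x, hx, rfl⟩
  have hRn : F.IsFullyNormalized R := fullyNormalized_of_normal hRS fun s hs => by
    haveI := finite_of_le hRS
    exact Subgroup.mem_normalizer_fintype fun x hx => hsR hs hx
  haveI := finite_of_le hRS
  haveI := finite_mulAut R
  have hδY : ∀ y ∈ Y, δ y = autFun α y := fun y hy =>
    (hδe (Subgroup.mem_sup_left hy)).trans (hδ₀e y hy)
  have hδYmem : ∀ y ∈ Y, δ y ∈ Y := fun y hy => by rw [hδY y hy]; exact PrimeIndex.autFun_mem _ hy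
  have hδC : ∀ c ∈ C', c⁻¹ * δ c ∈ Z := fun c hc => by
    rw [hδe (Subgroup.mem_sup_right hc)]
    exact hδ₀c c hc
  have hδR : ∀ x ∈ R, δ x ∈ R := isMap_mem_sup hδ le_sup_left le_sup_right
    (fun x hx => Subgroup.mem_sup_left (hδe hx ▸ hδ₀.mem hx))
    fun x hx => Subgroup.mem_sup_right ((hδT x hx).symm ▸ hx)
  obtain ⟨a, ha, hae⟩ := (isIso_of_mapsTo hδ hRS hδR le_rfl).exists_aut
  -- `δ` extends to `C_S(Y)`
  have hext : IsExtendable S R δ C := by
    refine ⟨centralizerIn_le _ _, fun s hs => ?_⟩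
    have hsS := hs.1
    have hsN : s ∈ Subgroup.normalizer (R : Set Ω) :=
      Subgroup.mem_normalizer_fintype fun x hx => hsR hsS hx
    refine ⟨hsN, ?_⟩
    set b : MulAut R := conjAutHom S R ⟨s, hsS, hsN⟩ with hb
    have hbA : b ∈ F.autGroup R := autInducedBy_le_autGroup hRS (by rw [← range_conjAutHom]; exact ⟨_, rfl⟩)
    have hbe : ∀ x ∈ R, autFun b x = s * x * s⁻¹ := fun x hx => by rw [autFun_of_mem b hx]; rfl
    set β := a * b * a⁻¹ * b⁻¹ with hβ
    have hβA : β ∈ F.autGroup R := mul_mem (mul_mem (mul_mem ha hbA) (inv_mem ha)) (inv_mem hbA)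
    -- the commutator fixes `Y T` and is trivial modulo it
    have hae' : ∀ x ∈ R, autFun a x = δ x := fun x hx => hae hx
    have hcomm : ∀ x ∈ R, autFun β (autFun (b * a) x) = autFun (a * b) x := fun x hx => by
      rw [autFun_of_mem (b * a) hx, autFun_coe, autFun_of_mem (a * b) hx]
      have : β * (b * a) = a * b := by rw [hβ]; group
      rw [← this]
      rfl
    have hY' : ∀ y ∈ Y, autFun β y = y := fun y hy => by
      obtain ⟨y₀, hy₀, rfl⟩ := ((mem_autGroup le_rfl).mp hα).exists_preimage hy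
      have h1 := hcomm y₀ (hYR hy₀)
      rw [autFun_mul _ _ (hYR hy₀), autFun_mul _ _ (hYR hy₀), Function.comp_apply, Function.comp_apply,
        hae' _ (hYR hy₀), hδY y₀ hy₀, hbe _ (hYR (PrimeIndex.autFun_mem α hy₀)), hbe y₀ (hYR hy₀)] at h1
      have e : ∀ {w : Ω}, w ∈ Y → s * w * s⁻¹ = w := fun {w} hw => by
        rw [← Subgroup.mem_centralizer_iff.mp hs.2 w hw, mul_inv_cancel_right]
      rw [e (PrimeIndex.autFun_mem α hy₀), e hy₀, hae' _ (hYR hy₀), hδY y₀ hy₀] at h1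
      exact h1
    have hT' : ∀ t ∈ T, autFun β t = t := fun t ht => by
      have ht₀ : s⁻¹ * t * s ∈ T := by simpa using h.nd.conj_t (S.inv_mem hsS) ht
      have h1 := hcomm _ (hTR ht₀)
      rw [autFun_mul _ _ (hTR ht₀), autFun_mul _ _ (hTR ht₀), Function.comp_apply, Function.comp_apply,
        hae' _ (hTR ht₀), hδT _ ht₀, hbe _ (hTR ht₀),
        show s * (s⁻¹ * t * s) * s⁻¹ = t by group, hae' _ (hTR ht), hδT t ht] at h1
      exact h1
    have hβi := (mem_autGroup hRS).mp hβA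
    have hZfix : ∀ z ∈ Z₀, autFun β z = z :=
      eqOn_sup hβi.1 (isMap_id hRS) hYR hTR hY' hT'
    have hCmod : ∀ c ∈ C', c⁻¹ * autFun β c ∈ Z₀ := fun c hc => by
      have hmem : c ∈ R := hC'R hc
      obtain ⟨w, hwC, hwe⟩ : ∃ w ∈ C', c = s * w * s⁻¹ :=
        ⟨s⁻¹ * c * s, by simpa using hsC' (S.inv_mem hsS) hc, by group⟩
      -- `w = δ w₀ * z`
      have hwR := hC'R hwC
      set z := w⁻¹ * δ w with hz
      have hzZ : z ∈ Z := hδC w hwC
      have hδw : δ w = w * z := by rw [hz]; group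
      have hcz : s * (w * z) * s⁻¹ = c * z := by
        rw [hwe, show s * (w * z) * s⁻¹ = s * w * s⁻¹ * (s * z * s⁻¹) by group,
          show s * z * s⁻¹ = z by
            rw [← Subgroup.mem_centralizer_iff.mp hs.2 z hzZ.1, mul_inv_cancel_right]]
      have h1 := hcomm w hwR
      rw [autFun_mul _ _ hwR, autFun_mul _ _ hwR, Function.comp_apply, Function.comp_apply,
        hae' _ hwR, hδw, hbe _ (R.mul_mem hwR (hYR hzZ.1)), hcz, hbe _ hwR, ← hwe, hae' _ hmem,
        hβi.1.map_mul hmem (hYR hzZ.1), hY' z hzZ.1] at h1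
      rw [show autFun β c = δ c * z⁻¹ by rw [← h1]; group, ← mul_assoc]
      exact Z₀.mul_mem (Subgroup.mem_sup_left (hδC c hc).1) (Subgroup.mem_sup_left (Y.inv_mem hzZ.1))
    have hfix : β ∈ fixMod R Z₀ := by
      refine ⟨fun x hx => Subtype.ext ((autFun_coe β x).symm.trans (hZfix x hx)), fun x => ?_⟩
      rw [Subgroup.coe_mul, Subgroup.coe_inv, ← autFun_coe β]
      have hxR : (x : Ω) ∈ ((C' ⊔ Z₀ : Subgroup Ω) : Set Ω) := by
        have : R ≤ C' ⊔ Z₀ := sup_le (sup_le (le_sup_left.trans le_sup_right) le_sup_left)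
          (le_sup_right.trans le_sup_right)
        exact this x.2
      have hC'N : C' ≤ Subgroup.normalizer (Z₀ : Set Ω) := fun c hc => by
        haveI := finite_of_le ((sup_le hYR hTR : Z₀ ≤ R).trans hRS)
        refine Subgroup.mem_normalizer_fintype fun z hz => ?_
        have : Z₀.map (MulAut.conj c).toMonoidHom ≤ Z₀ := by
          rw [hZ₀, Subgroup.map_sup]
          refine sup_le ?_ ?_
          · rintro _ ⟨y, hy, rfl⟩
            exact Subgroup.mem_sup_left (conj_mem_of_mem_normalizer (h.yn hc.1.1) hy)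
          · rintro _ ⟨y, hy, rfl⟩
            exact Subgroup.mem_sup_right (h.nd.conj_t hc.1.1 hy)
        exact this ⟨z, hz, rfl⟩
      rw [Subgroup.coe_mul_of_left_le_normalizer_right _ _ hC'N] at hxR
      obtain ⟨c, hc, z, hz, hxe⟩ := Set.mem_mul.mp hxR
      have hzR : z ∈ R := (sup_le hYR hTR : Z₀ ≤ R) hz
      rw [← hxe, hβi.1.map_mul (hC'R hc) hzR, hZfix z hz,
        show (c * z)⁻¹ * (autFun β c * z) = z⁻¹ * (c⁻¹ * autFun β c) * z by group]
      exact Z₀.mul_mem (Z₀.mul_mem (Z₀.inv_mem hz) (hCmod c hc)) hz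
    -- so it is induced by `S`
    obtain ⟨U, hU⟩ := (fullyAutomized_of_fullyNormalized h.nd.pgroup h.nd.sat hRn).2
    have hpres : ∀ γ ∈ F.autGroup R, ∀ x : R, (x : Ω) ∈ Z₀ → ((γ x : R) : Ω) ∈ Z₀ := by
      intro γ hγ x hx
      have hγi := ((mem_autGroup hRS).mp hγ).1
      rw [← autFun_coe γ]
      refine isMap_mem_sup (hγi.mono (sup_le hYR hTR)) le_sup_left le_sup_right (fun y hy => ?_)
        (fun y hy => ?_) _ hx
      · exact Subgroup.mem_sup_left (Fusion92.closed_apply h.closed hγi (hYR hy) hy)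
      · exact Subgroup.mem_sup_right (Fusion92.closed_apply h.nd.closed hγi (hTR hy) hy)
    haveI := fixMod_normal (Z := Z₀) (F.autGroup R) hpres
    have hle : (fixMod R Z₀).subgroupOf (F.autGroup R) ≤ U := by
      refine le_trans le_sup_left (U.is_maximal' ?_ le_sup_right).le
      exact IsPGroup.to_sup_of_normal_left
        ((fixMod_isPGroup (h.nd.pgroup.to_le hRS)).comap_of_injective _ (Subgroup.subtype_injective _))
        U.isPGroup'
    have hmem := hle (show (⟨β, hβA⟩ : F.autGroup R) ∈ (fixMod R Z₀).subgroupOf (F.autGroup R) from hfix)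
    rw [hU, Subgroup.mem_subgroupOf, ← range_conjAutHom] at hmem
    obtain ⟨⟨u, hu⟩, hue⟩ := hmem
    refine ⟨u * s, S.mul_mem hu.1 hsS, fun x hx => ?_⟩
    have h1 := hcomm x hx
    rw [autFun_mul _ _ hx, autFun_mul _ _ hx, Function.comp_apply, Function.comp_apply, hae' _ hx,
      hbe _ (hδR x hx), hbe _ hx, hae' _ (hsR hsS hx), autFun_of_mem β (hsR hsS (hδR x hx))] at h1
    rw [← h1]
    have h2 : (conjAutHom S R ⟨u, hu⟩) ⟨_, hsR hsS (hδR x hx)⟩ = β ⟨_, hsR hsS (hδR x hx)⟩ := by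
      rw [show (conjAutHom S R ⟨u, hu⟩) = β from hue]
    rw [← h2]
    show u * (s * δ x * s⁻¹) * u⁻¹ = u * s * δ x * (u * s)⁻¹
    group
  obtain ⟨f, hf, hfe⟩ := receptive_extend (h.nd.recv hRn) (isIso_of_mapsTo hδ hRS hδR le_rfl) hext
  have hMle : M ≤ R ⊔ C := sup_le (hYR.trans le_sup_left) le_sup_right
  haveI := finite_of_le hMS
  haveI := finite_mulAut M
  have hfY : f '' (Y : Set Ω) = (Y : Set Ω) :=
    (Set.image_congr fun y hy => (hfe (hYR hy)).trans (hδY y hy)).trans (autFun_image α)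
  have hfM : ∀ x ∈ M, f x ∈ M := isMap_mem_sup (hf.mono hMle) le_sup_left le_sup_right
    (fun x hx => Subgroup.mem_sup_left (show f x ∈ (Y : Set Ω) by rw [← hfY]; exact ⟨x, hx, rfl⟩))
    fun x hx => Subgroup.mem_sup_right
      (Fusion.map_mem_centralizer (hf.mono hMle) le_sup_left hfY (Subgroup.mem_sup_right hx) hx.2)
  obtain ⟨γ₀, hγ₀, hγ₀e⟩ := (isIso_of_mapsTo (hf.mono hMle) hMS hfM le_rfl).exists_aut
  obtain ⟨m, hm, hαm⟩ := exists_pow_coprime (p := p) (⟨γ₀, hγ₀⟩ : F.autGroup M) α ho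
  have hγ₀i := (mem_autGroup hMS).mp hγ₀
  have hγ₀R : ∀ x ∈ R, autFun γ₀ x = δ x := fun x hx => (hγ₀e (hRM hx)).trans (hfe hx)
  have hC'R' : ∀ {c z : Ω}, c ∈ C' → z ∈ Z → c * z ∈ C' := fun hc hz =>
    C'.mul_mem hc ⟨h.le hz.1, hz.2⟩
  have hδZ : ∀ z ∈ Z, δ z ∈ Z := fun z hz => ⟨hδYmem z hz.1, by
    have hδYim : δ '' (Y : Set Ω) = (Y : Set Ω) := (Set.image_congr hδY).trans (autFun_image α)
    exact (Fusion.map_mem_centralizer hδ hYR hδYim (hYR hz.1) hz.2).2⟩
  have hpow : ∀ j : ℕ, (∀ t ∈ T, autFun (γ₀ ^ j) t = t) ∧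
      (∀ y ∈ Y, autFun (γ₀ ^ j) y = autFun (α ^ j) y) ∧
      ∀ c ∈ C', c⁻¹ * autFun (γ₀ ^ j) c ∈ Z := by
    intro j
    induction j with
    | zero =>
      refine ⟨fun t ht => ?_, fun y hy => ?_, fun c hc => ?_⟩
      · rw [pow_zero, autFun_one (hRM (hTR ht))]; rfl
      · rw [pow_zero, pow_zero, autFun_one hy, autFun_one (hRM (hYR hy))]
      · rw [pow_zero, autFun_one (hRM (hC'R hc)), id, inv_mul_cancel]
        exact one_mem _
    | succ j ih =>
      obtain ⟨i1, i2, i3⟩ := ih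
      refine ⟨fun t ht => ?_, fun y hy => ?_, fun c hc => ?_⟩
      · rw [pow_succ', autFun_mul _ _ (hRM (hTR ht)), Function.comp_apply, i1 t ht,
          hγ₀R _ (hTR ht), hδT t ht]
      · rw [pow_succ', pow_succ', autFun_mul _ _ (hRM (hYR hy)), autFun_mul _ _ hy, Function.comp_apply,
          Function.comp_apply, i2 y hy, hγ₀R _ (hYR (PrimeIndex.autFun_mem _ hy)),
          hδY _ (PrimeIndex.autFun_mem _ hy)]
      · set z := c⁻¹ * autFun (γ₀ ^ j) c with hz
        have hzZ : z ∈ Z := i3 c hc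
        rw [pow_succ', autFun_mul _ _ (hRM (hC'R hc)), Function.comp_apply,
          show autFun (γ₀ ^ j) c = c * z by rw [hz]; group, hγ₀R _ (hC'R (hC'R' hc hzZ)),
          hδ.map_mul (hC'R hc) (hYR hzZ.1), ← mul_assoc]
        exact Z.mul_mem (hδC c hc) (hδZ z hzZ)
  set γ := γ₀ ^ m with hγd
  have hγF : γ ∈ F.autGroup M := (F.autGroup M).pow_mem hγ₀ m
  have hγi := (mem_autGroup hMS).mp hγF
  obtain ⟨hγT, hγY, hγC'⟩ := hpow m
  rw [hαm] at hγY
  refine ⟨γ, hγF, fun y hy => hγY y hy, fun s hs => ?_⟩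
  -- the defect on `C_S(Y)`
  have hγYim : autFun γ '' (Y : Set Ω) = (Y : Set Ω) := (Set.image_congr hγY).trans (autFun_image α)
  have hsM : s ∈ M := Subgroup.mem_sup_right hs
  have hγs : autFun γ s ∈ C := Fusion.map_mem_centralizer hγi.1 le_sup_left hγYim hsM hs.2
  set d := s⁻¹ * autFun γ s with hd
  have hdC' : d ∈ C' := by
    refine ⟨⟨S.mul_mem (S.inv_mem hs.1) hγs.1, Subgroup.mem_centralizer_iff.mpr fun t ht => ?_⟩,
      Subgroup.mul_mem _ (Subgroup.inv_mem _ hs.2) hγs.2⟩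
    have h1 : autFun γ s * t * (autFun γ s)⁻¹ = s * t * s⁻¹ := by
      have := hγi.1.map_conj hsM (hRM (hTR ht))
      rw [hγT _ (h.nd.conj_t hs.1 ht), hγT t ht] at this
      exact this.symm
    calc t * (s⁻¹ * autFun γ s) = s⁻¹ * (s * t * s⁻¹) * autFun γ s := by group
      _ = s⁻¹ * (autFun γ s * t * (autFun γ s)⁻¹) * autFun γ s := by rw [h1]
      _ = s⁻¹ * autFun γ s * t := by group
  have hit : ∀ j : ℕ, (d ^ j)⁻¹ * (s⁻¹ * autFun (γ ^ j) s) ∈ Z := by
    intro j
    induction j with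
    | zero =>
      rw [pow_zero, pow_zero, autFun_one hsM]
      simp [Z.one_mem]
    | succ j ih =>
      set w := s⁻¹ * autFun (γ ^ j) s with hw
      have hwC : w ∈ C' := by
        have := hC'R' (C'.pow_mem hdC' j) ih
        rwa [mul_inv_cancel_left] at this
      rw [pow_succ' γ, autFun_mul _ _ hsM, Function.comp_apply,
        show autFun (γ ^ j) s = s * w by rw [hw]; group, hγi.1.map_mul hsM (hRM (hC'R hwC)),
        show (d ^ (j + 1))⁻¹ * (s⁻¹ * (autFun γ s * autFun γ w)) =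
          (d ^ j)⁻¹ * d⁻¹ * (s⁻¹ * autFun γ s) * w * (w⁻¹ * autFun γ w) by
            rw [pow_succ']; group,
        ← hd, inv_mul_cancel_right]
      exact Z.mul_mem ih (hγC' w hwC)
  have hZle : ∀ {z : Ω}, z ∈ Z → z ∈ Y := fun hz => hz.1
  have hd_o : d ^ orderOf γ ∈ Z := by
    have := hit (orderOf γ)
    rw [pow_orderOf_eq_one, autFun_one hsM, id, inv_mul_cancel, mul_one] at this
    simpa using Z.inv_mem this
  obtain ⟨k, hk⟩ := h.nd.pgroup ⟨d, hdC'.1.1⟩
  refine hZle (TClass.mem_of_pow_of_pow hd_o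
    (by rw [show d ^ p ^ k = 1 from congrArg Subtype.val hk]; exact one_mem _) ?_)
  have hm' : (orderOf γ).Coprime p := by
    rw [hγd]
    have : orderOf ((⟨γ₀, hγ₀⟩ : F.autGroup M) ^ m) = orderOf (γ₀ ^ m) := by
      rw [← Subgroup.orderOf_coe, Subgroup.coe_pow]
    rwa [← this]
  exact hm'.pow_right k

/-- `D` is normal in `F`. -/
theorem isNormalIn (h : CData F E p D hTS) : D.IsNormalIn F p := by
  haveI := finite_of_le h.yS
  haveI := finite_mulAut Y
  refine Fus93.isNormalIn_of ⟨h.sat, h.nd.sat, Fus93.isInvariantIn_of h.sub h.closed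
    (fun P f hf k hk P' hP' => transport h hk hf hP') fun P f hf hP => frattini h hf hP⟩ fun k hk => ?_
  set M := Y ⊔ centralizerIn S Y with hM
  have hMS : M ≤ S := sup_le h.yS (centralizerIn_le _ _)
  obtain ⟨U, hU⟩ := (fullyAutomized_of_fullyNormalized (h.nd.pgroup.to_le h.yS) h.sat
    (fullyNormalized_self (F := D))).2
  let K : Subgroup (D.autGroup Y) :=
    { carrier := {a | Lift F (a : MulAut Y)}
      one_mem' := lift_one
      mul_mem' := fun ha hb => lift_mul h.yS ha hb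
      inv_mem' := fun {a} ha => by
        have h1 : a⁻¹ = a ^ (orderOf a - 1) := by
          rw [inv_eq_iff_mul_eq_one, ← pow_succ', Nat.sub_add_cancel (orderOf_pos a), pow_orderOf_eq_one]
        show Lift F ((a⁻¹ : D.autGroup Y) : MulAut Y)
        rw [h1, Subgroup.coe_pow]
        exact lift_pow h.yS ha _ }
  have hK : K = ⊤ := by
    refine eq_top_of_sylow_coprime U K (fun a ha => ?_)
      fun a ha => lift_coprime h a.2 (by rwa [Subgroup.orderOf_coe])
    rw [hU, Subgroup.mem_subgroupOf, mem_autInducedBy] at ha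
    obtain ⟨t, ht, hta⟩ := ha
    have htN : t ∈ normalizerIn S M :=
      ⟨h.yS ht, Subgroup.le_normalizer (Subgroup.mem_sup_left ht : t ∈ M)⟩
    refine ⟨conjAutHom S M ⟨t, htN⟩, autInducedBy_le_autGroup hMS
      (by rw [← range_conjAutHom]; exact ⟨_, rfl⟩), fun x hx => ?_, fun c hc => ?_⟩
    · rw [autFun_of_mem _ hx, hta ⟨x, hx⟩, autFun_of_mem _ (Subgroup.mem_sup_left hx : x ∈ M)]
      rfl
    · rw [autFun_of_mem _ (Subgroup.mem_sup_right hc : c ∈ M)]
      show c⁻¹ * (t * c * t⁻¹) ∈ Y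
      rw [Subgroup.mem_centralizer_iff.1 hc.2 t ht, mul_assoc c, mul_inv_cancel, mul_one, inv_mul_cancel]
      exact Y.one_mem
  obtain ⟨α, hα, hαe⟩ := hk.exists_aut
  obtain ⟨γ, hγ, hγe, hγc⟩ : Lift F α :=
    (show (⟨α, hα⟩ : D.autGroup Y) ∈ K from hK.ge (Subgroup.mem_top _))
  have hγi := (mem_autGroup hMS).1 hγ
  refine ⟨autFun γ, hγi, fun x hx => (hγe hx).trans (hαe hx), fun c hc => ⟨hγc c hc, ?_⟩⟩
  exact Subgroup.mul_mem _ (Subgroup.inv_mem _ hc.2)
    (Fusion.map_mem_centralizer hγi.1 le_sup_left ((Set.image_congr hγe).trans (autFun_image α))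
      (Subgroup.mem_sup_right hc) hc.2).2

end Cfsg.Agent.Fusion92.CentE
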